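import Cfsg.Agent.Lib.InvolChar.AutA6
import Cfsg.Agent.Lib.InvolChar.SubgroupsA8
import Cfsg.Agent.Lib.Cores.Basic

/-!
# Extensions of the alternating group of degree six by the linear group of degree three over two elements
-/

set_option autoImplicit false
set_option linter.style.haveILetI false

namespace CfsgLib.LargeFischer.Split

open Subgroup CfsgLib.InvolChar

/-- The alternating group of degree six. -/
abbrev A6 : Type := ↥(alternatingGroup (Fin 6))

theorem a6_simple : IsSimpleGroup A6 := alternatingGroup.isSimpleGroup (by simp)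

theorem a6_card : Nat.card A6 = 360 := by
  rw [Nat.card_eq_fintype_card]
  decide +kernel

theorem a6_center : Subgroup.center A6 = ⊥ := by
  refine (Subgroup.eq_bot_iff_forall _).2 fun x hx => Subtype.ext ?_
  refine A6.eq_one_of_centralizes (x : Equiv.Perm (Fin 6)) fun y => ?_
  exact congrArg Subtype.val (Subgroup.mem_center_iff.1 hx y).symm

/-- An automorphism of the alternating group of degree six of order dividing seven is trivial. -/
theorem auto_seven (φ : MulAut A6) (h : φ ^ 7 = 1) : φ = 1 := by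
  classical
  haveI : Fact (Nat.Prime 7) := ⟨by norm_num⟩
  by_contra hne
  have ho : orderOf φ = 7 := orderOf_eq_prime h hne
  -- some element of order three is fixed
  obtain ⟨c, hc, hfix⟩ : ∃ c : A6, orderOf c = 3 ∧ φ c = c := by
    have hP : IsPGroup 7 ↥(Subgroup.zpowers φ) := by
      refine IsPGroup.of_card (n := 1) ?_
      rw [Nat.card_zpowers, ho, pow_one]
    let S : Type := {c : A6 // c ^ 3 = 1 ∧ c ≠ 1}
    have hSinv : ∀ (ψ : MulAut A6) (c : A6), c ^ 3 = 1 ∧ c ≠ 1 → ψ c ^ 3 = 1 ∧ ψ c ≠ 1 := fun ψ c hc =>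
      ⟨by rw [← map_pow, hc.1, map_one], fun e => hc.2 (ψ.injective (e.trans (map_one ψ).symm))⟩
    letI : MulAction ↥(Subgroup.zpowers φ) S :=
      { smul := fun ψ c => ⟨(ψ : MulAut A6) c.1, hSinv _ _ c.2⟩
        one_smul := fun c => Subtype.ext rfl
        mul_smul := fun a b c => Subtype.ext rfl }
    have hS : Nat.card S = 80 := by
      show Nat.card {c : A6 // c ^ 3 = 1 ∧ c ≠ 1} = 80
      rw [Nat.card_eq_fintype_card]
      decide +kernel
    obtain ⟨c, hcfix⟩ := hP.nonempty_fixed_point_of_prime_not_dvd_card (α := S) (by rw [hS]; norm_num)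
    exact ⟨c.1, orderOf_eq_prime c.2.1 c.2.2, congrArg Subtype.val (hcfix ⟨φ, Subgroup.mem_zpowers φ⟩)⟩
  obtain ⟨π, hπ⟩ := A6.aut_is_conj φ c hc hfix
  have hpow : ∀ (k : ℕ) (x : A6), ((φ ^ k) x : Equiv.Perm (Fin 6)) = π ^ k * x * (π ^ k)⁻¹ := by
    intro k
    induction k with
    | zero => intro x; simp
    | succ k ih =>
      intro x
      rw [pow_succ, MulAut.mul_apply, ih, hπ, pow_succ]
      group
  have h7 : π ^ 7 = 1 := A6.eq_one_of_centralizes _ fun x => by
    have := hpow 7 x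
    rw [h] at this
    exact (eq_mul_inv_iff_mul_eq.1 this).symm
  have hπ1 : π = 1 := by
    have h1 := orderOf_dvd_of_pow_eq_one h7
    have h2 : orderOf π ∣ 720 := by
      have := orderOf_dvd_natCard π
      rwa [Nat.card_eq_fintype_card, Fintype.card_perm, Fintype.card_fin] at this
    have h3 : orderOf π ∣ Nat.gcd 7 720 := Nat.dvd_gcd h1 h2
    rw [show Nat.gcd 7 720 = 1 by decide, Nat.dvd_one, orderOf_eq_one_iff] at h3
    exact h3
  exact hne (MulEquiv.ext fun x => Subtype.ext (by rw [hπ, hπ1]; simp))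

/-- The general and the special linear group of degree three over two elements. -/
theorem gl_equiv_sl :
    Nonempty (GL (Fin 3) (ZMod 2) ≃* Matrix.SpecialLinearGroup (Fin 3) (ZMod 2)) := by
  have hdet : ∀ g : GL (Fin 3) (ZMod 2), (g : Matrix (Fin 3) (Fin 3) (ZMod 2)).det = 1 := fun g =>
    (CfsgLib.A8.zmod_two_cases _).resolve_left
      ((Matrix.isUnit_iff_isUnit_det (g : Matrix (Fin 3) (Fin 3) (ZMod 2))).1 g.isUnit).ne_zero
  exact ⟨CfsgLib.A8.glEquivSL hdet⟩

theorem normal_two_bot {S : Type*} [Group S] [Finite S] [IsSimpleGroup S] (h : ¬ IsPGroup 2 S) {P : Subgroup S}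
    [hn : P.Normal] (hP : IsPGroup 2 ↥P) : P = ⊥ := by
  refine hn.eq_bot_or_eq_top.resolve_right fun e => h ?_
  subst e
  exact hP.of_equiv Subgroup.topEquiv

/-- An extension of the alternating group of degree six by the linear group splits as a direct product. -/
theorem nonempty_prod {G : Type*} [Group G] [Finite G] (N : Subgroup G) [hN : N.Normal] (e : ↥N ≃* A6)
    (f : G →* GL (Fin 3) (ZMod 2)) (hf : Function.Surjective f) (hker : f.ker = N) :
    Nonempty (G ≃* Matrix.SpecialLinearGroup (Fin 3) (ZMod 2) × A6) ∧ Cfsg.pCore 2 G = ⊥ := by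
  classical
  haveI := a6_simple
  haveI : Fact (Nat.Prime 7) := ⟨by norm_num⟩
  set α : G →* MulAut A6 := (MulAut.congr e).toMonoidHom.comp MulAut.conjNormal with hα
  have hZ : ∀ g, g ∈ α.ker ↔ ∀ n ∈ N, g * n * g⁻¹ = n := by
    intro g
    rw [MonoidHom.mem_ker, hα, MonoidHom.comp_apply, MulEquiv.coe_toMonoidHom, MulEquiv.map_eq_one_iff]
    constructor
    · intro h n hn
      have := congrArg (fun ψ : MulAut ↥N => ((ψ ⟨n, hn⟩ : ↥N) : G)) h
      simpa [MulAut.conjNormal_apply] using this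
    · intro h
      refine MulEquiv.ext fun n => Subtype.ext ?_
      rw [MulAut.conjNormal_apply]
      exact h n n.2
  have hdisj : ∀ g, g ∈ α.ker → g ∈ N → g = 1 := by
    intro g hg hgN
    have hc : e ⟨g, hgN⟩ ∈ Subgroup.center A6 := Subgroup.mem_center_iff.2 fun y => by
      obtain ⟨n, rfl⟩ := e.surjective y
      rw [← map_mul, ← map_mul]
      congr 1
      exact Subtype.ext (mul_inv_eq_iff_eq_mul.1 ((hZ g).1 hg n n.2)).symm
    rw [a6_center, Subgroup.mem_bot] at hc
    exact congrArg Subtype.val (e.injective (hc.trans (map_one e).symm))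
  have h7 : ∃ g ∈ α.ker, f g ≠ 1 := by
    obtain ⟨u, hu⟩ := exists_prime_orderOf_dvd_card' (G := GL (Fin 3) (ZMod 2)) 7
      (by rw [SubgroupsA8.gl3_card]; norm_num)
    obtain ⟨g, rfl⟩ := hf u
    refine ⟨g ^ 360, ?_, fun e' => ?_⟩
    · have hg7 : g ^ 7 ∈ N := by
        rw [← hker, MonoidHom.mem_ker, map_pow, ← hu, pow_orderOf_eq_one]
      have h1 : (g ^ 360) ^ 7 = 1 := by
        rw [← pow_mul, mul_comm, pow_mul]
        have := congrArg Subtype.val (pow_card_eq_one' (G := ↥N) (x := ⟨g ^ 7, hg7⟩))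
        rw [Nat.card_congr e.toEquiv, a6_card] at this
        exact this
      rw [MonoidHom.mem_ker]
      exact auto_seven _ (by rw [← map_pow, h1, map_one])
    · rw [map_pow] at e'
      have := orderOf_dvd_of_pow_eq_one e'
      rw [hu] at this
      omega
  set ι : ↥α.ker →* GL (Fin 3) (ZMod 2) := f.comp α.ker.subtype with hι
  have hιsurj : Function.Surjective ι := by
    refine MonoidHom.range_eq_top.1 ?_
    rw [hι, MonoidHom.range_comp, Subgroup.range_subtype]
    haveI : (α.ker.map f).Normal := α.normal_ker.map f hf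
    refine ((inferInstance : (α.ker.map f).Normal).eq_bot_or_eq_top).resolve_left fun hb => ?_
    obtain ⟨g, hg, hne⟩ := h7
    exact hne (Subgroup.mem_bot.1 (hb ▸ ⟨g, hg, rfl⟩))
  have hιinj : Function.Injective ι := (injective_iff_map_eq_one ι).2 fun x hx =>
    Subtype.ext (hdisj x x.2 (hker ▸ MonoidHom.mem_ker.2 hx))
  let eι : ↥α.ker ≃* GL (Fin 3) (ZMod 2) := MulEquiv.ofBijective ι ⟨hιinj, hιsurj⟩
  let ψ : ↥α.ker × ↥N →* G :=
    MonoidHom.mk' (fun p => (p.1 : G) * p.2) fun p p' => by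
      have hc : (p'.1 : G) * (p.2 : G) = (p.2 : G) * p'.1 :=
        mul_inv_eq_iff_eq_mul.1 ((hZ p'.1).1 p'.1.2 p.2 p.2.2)
      show ((p.1 : G) * p'.1) * ((p.2 : G) * p'.2) = (p.1 : G) * p.2 * ((p'.1 : G) * p'.2)
      rw [mul_assoc (p.1 : G), ← mul_assoc (p'.1 : G), hc]
      group
  have hψ : Function.Bijective ψ := by
    constructor
    · refine (injective_iff_map_eq_one ψ).2 ?_
      rintro ⟨a, b⟩ hab
      have ha : (a : G) = (b : G)⁻¹ := eq_inv_of_mul_eq_one_left hab
      have ha1 : (a : G) = 1 := hdisj a a.2 (ha ▸ inv_mem b.2)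
      have hb1 : (b : G) = 1 := by
        rw [ha1, eq_comm, inv_eq_one] at ha
        exact ha
      exact Prod.ext (Subtype.ext ha1) (Subtype.ext hb1)
    · intro g
      obtain ⟨a, ha⟩ := hιsurj (f g)
      refine ⟨⟨a, ⟨(a : G)⁻¹ * g, ?_⟩⟩, mul_inv_cancel_left _ _⟩
      rw [← hker, MonoidHom.mem_ker, map_mul, map_inv, inv_mul_eq_one]
      exact ha
  obtain ⟨esl⟩ := gl_equiv_sl
  let E : G ≃* Matrix.SpecialLinearGroup (Fin 3) (ZMod 2) × A6 :=
    (MulEquiv.ofBijective ψ hψ).symm.trans ((eι.trans esl).prodCongr e)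
  refine ⟨⟨E⟩, ?_⟩
  have hnot : ∀ {S : Type} [Group S] [Finite S] (q : ℕ), q.Prime → q ≠ 2 → q ∣ Nat.card S → ¬ IsPGroup 2 S := by
    intro S _ _ q hq hq2 hdvd h
    haveI : Fact (Nat.Prime 2) := ⟨Nat.prime_two⟩
    obtain ⟨k, hk⟩ := IsPGroup.iff_card.1 h
    rw [hk] at hdvd
    exact hq2 ((Nat.prime_dvd_prime_iff_eq hq Nat.prime_two).1 (hq.dvd_of_dvd_pow hdvd))
  have h2 := CfsgLib.Cores.isPGroup_pCore (G := G) 2
  haveI hn1 : ((Cfsg.pCore 2 G).map f).Normal := (inferInstance : (Cfsg.pCore 2 G).Normal).map f hf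
  have hf1 := normal_two_bot (hnot 7 (by norm_num) (by norm_num) (by rw [SubgroupsA8.gl3_card]; norm_num)) (h2.map f)
  have hp2 : Function.Surjective ((MonoidHom.snd _ _).comp E.toMonoidHom) :=
    fun y => ⟨E.symm (1, y), by simp⟩
  haveI hn2 : ((Cfsg.pCore 2 G).map ((MonoidHom.snd _ _).comp E.toMonoidHom)).Normal :=
    (inferInstance : (Cfsg.pCore 2 G).Normal).map _ hp2
  have hf2 := normal_two_bot (P := (Cfsg.pCore 2 G).map ((MonoidHom.snd _ _).comp E.toMonoidHom))
    (hnot 3 Nat.prime_three (by norm_num) (by rw [a6_card]; norm_num)) (h2.map _)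
  refine (Subgroup.eq_bot_iff_forall _).2 fun g hg => ?_
  have hgN : g ∈ N := by
    rw [← hker, MonoidHom.mem_ker]
    exact Subgroup.mem_bot.1 (hf1 ▸ ⟨g, hg, rfl⟩)
  have hg2 : (E g).2 = 1 := Subgroup.mem_bot.1 (hf2 ▸ ⟨g, hg, rfl⟩)
  have hEg : E g = (1, e ⟨g, hgN⟩) := by
    have : (MulEquiv.ofBijective ψ hψ).symm g = ((1 : ↥α.ker), (⟨g, hgN⟩ : ↥N)) := by
      rw [MulEquiv.symm_apply_eq]
      exact (one_mul g).symm
    show ((eι.trans esl).prodCongr e) ((MulEquiv.ofBijective ψ hψ).symm g) = _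
    rw [this]
    exact Prod.ext (map_one (eι.trans esl)) rfl
  rw [hEg] at hg2
  exact congrArg Subtype.val (e.injective (hg2.trans (map_one e).symm))

end CfsgLib.LargeFischer.Split
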