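import Cfsg.Agent.Lib.LargeFischer.Main
import Cfsg.Agent.Lib.LargeFischer.Lagrangian
import Cfsg.Agent.Lib.LargeFischer.ThreeTwelve.Split

/-!
# The line of the central vector over the field of four elements
-/

set_option autoImplicit false
set_option linter.unusedSectionVars false
set_option linter.style.haveILetI false

namespace CfsgLib.LargeFischer.Core

open QuadraticMap
open CfsgLib.Schur.Tails.UFour (H4 card_H4)

variable {V : Type*} [AddCommGroup V] [Module (ZMod 2) V] [Finite V]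
  {K : Type*} [Group K] [Finite K] [DistribMulAction K V]
  {q : QuadraticForm (ZMod 2) V} {n : K} {M : Subgroup K} {φ : ↥M →* ↥H4} (c : Core q n M φ)
  {s : V} (hs : Central q K s) {E : Subgroup K} {D : AddSubgroup V} (hd : CentData q s E D)

/-- The line of a vector over the field of four elements. -/
def InLine (n : K) (s v : V) : Prop := v = 0 ∨ v = s ∨ v = n • s ∨ v = n • n • s

section noData

include c hs

theorem line_distinct : n • s ≠ s ∧ n • n • s ≠ s ∧ n • n • s ≠ n • s ∧ s + n • s = n • n • s ∧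
    n • n • n • s = s := by
  have h1 := c.smul_n_ne hs hs.ne
  refine ⟨h1, fun h => h1 ?_, fun h => h1 ?_, (c.n_quad hs s).symm, c.smul_n_three s⟩
  · calc n • s = n • n • n • s := by rw [h]
      _ = s := c.smul_n_three s
  · exact MulAction.injective n h

theorem inLine_add {a b : V} (ha : InLine n s a) (hb : InLine n s b) : InLine n s (a + b) := by
  have e : s + n • s = n • n • s := (c.line_distinct hs).2.2.2.1
  have e1 : s + n • n • s = n • s := by rw [← e, ← add_assoc, vadd_self, zero_add]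
  have e2 : n • s + n • n • s = s := by rw [← e, add_left_comm, vadd_self, add_zero]
  rcases ha with rfl | rfl | rfl | rfl <;> rcases hb with rfl | rfl | rfl | rfl
  all_goals unfold InLine
  all_goals first
    | simp only [zero_add, add_zero, true_or, or_true]
    | simp only [vadd_self, true_or]
    | simp only [e, or_true]
    | simp only [e1, or_true, true_or]
    | simp only [e2, or_true, true_or]
    | (rw [add_comm]; simp only [e, e1, e2, or_true, true_or])

/-- An element fixes the central vector and its translate iff it lies in `M` and fixes the central vector. -/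
theorem fix_pair {k : K} :
    (k • s = s ∧ k • n • s = n • s) ↔ k ∈ MulAction.stabilizer K s ⊓ M := by
  obtain ⟨-, -, h3, -, -⟩ := c.line_distinct hs
  constructor
  · rintro ⟨hk, hkn⟩
    refine ⟨hk, ?_⟩
    by_contra hkM
    apply h3
    rw [← mul_smul, c.conj_n_outer hs hkM, mul_smul, mul_smul, hk] at hkn
    exact hkn
  · rintro ⟨hk, hkM⟩
    exact ⟨hk, by rw [← mul_smul, c.commute hkM, mul_smul, hk]⟩

theorem line_mul {a b : K} (ha : a • s = s ∨ a • s = n • s ∨ a • s = n • n • s)
    (hb : b • s = s ∨ b • s = n • s ∨ b • s = n • n • s) :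
    (a * b) • s = s ∨ (a * b) • s = n • s ∨ (a * b) • s = n • n • s := by
  obtain ⟨-, -, -, -, e3⟩ := c.line_distinct hs
  have hcl : ∀ w : V, (w = s ∨ w = n • s ∨ w = n • n • s) →
      (n • w = s ∨ n • w = n • s ∨ n • w = n • n • s) := by
    rintro w (rfl | rfl | rfl)
    exacts [Or.inr (Or.inl rfl), Or.inr (Or.inr rfl), Or.inl e3]
  have h1 : ∀ v : V, a • n • v = n • a • v ∨ a • n • v = n • n • a • v := by
    intro v
    rcases c.conj_n a with h | h
    · left
      rw [← mul_smul, ← mul_smul, mul_inv_eq_iff_eq_mul.1 h]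
    · right
      rw [← mul_smul, ← mul_smul, ← mul_smul, mul_inv_eq_iff_eq_mul.1 h]
  have ha1 : a • n • s = s ∨ a • n • s = n • s ∨ a • n • s = n • n • s := by
    rcases h1 s with h | h <;> rw [h]
    exacts [hcl _ ha, hcl _ (hcl _ ha)]
  have ha2 : a • n • n • s = s ∨ a • n • n • s = n • s ∨ a • n • n • s = n • n • s := by
    rcases h1 (n • s) with h | h <;> rw [h]
    exacts [hcl _ ha1, hcl _ (hcl _ ha1)]
  rw [mul_smul]
  rcases hb with e | e | e <;> rw [e]
  exacts [ha, ha1, ha2]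

/-- The subgroup preserving the line. -/
def lineStab : Subgroup K where
  carrier := {k | k • s = s ∨ k • s = n • s ∨ k • s = n • n • s}
  one_mem' := Or.inl (one_smul K s)
  mul_mem' := fun ha hb => c.line_mul hs ha hb
  inv_mem' := by
    intro a ha
    have key : ∀ k : ℕ, (a ^ k) • s = s ∨ (a ^ k) • s = n • s ∨ (a ^ k) • s = n • n • s := by
      intro k
      induction k with
      | zero => exact Or.inl (by rw [pow_zero, one_smul])
      | succ k ih =>
        rw [pow_succ]
        exact c.line_mul hs ih ha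
    have he : a⁻¹ = a ^ (orderOf a - 1) := by
      refine inv_eq_of_mul_eq_one_right ?_
      rw [← pow_succ', Nat.sub_add_cancel (orderOf_pos a), pow_orderOf_eq_one]
    show a⁻¹ • s = s ∨ a⁻¹ • s = n • s ∨ a⁻¹ • s = n • n • s
    rw [he]
    exact key _

theorem lineStab_card : Nat.card ↥(c.lineStab hs) = 34560 := by
  set L := c.lineStab hs
  have horb : MulAction.orbit ↥L s = {s, n • s, n • n • s} := by
    ext v
    constructor
    · rintro ⟨⟨k, hk⟩, rfl⟩
      rcases hk with e | e | e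
      · exact Or.inl e
      · exact Or.inr (Or.inl e)
      · exact Or.inr (Or.inr e)
    · rintro (rfl | rfl | rfl)
      · exact MulAction.mem_orbit_self v
      · exact ⟨⟨n, Or.inr (Or.inl rfl)⟩, rfl⟩
      · exact ⟨⟨n * n, Or.inr (Or.inr (mul_smul n n s))⟩, mul_smul n n s⟩
  obtain ⟨h1, h2, h3, -, -⟩ := c.line_distinct hs
  have h3' : (MulAction.orbit ↥L s).ncard = 3 :=
    Set.ncard_eq_three.2 ⟨_, _, _, h1.symm, h2.symm, h3.symm, horb⟩
  have hst : Nat.card ↥(MulAction.stabilizer ↥L s) = Nat.card ↥(MulAction.stabilizer K s) :=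
    Nat.card_congr
      { toFun := fun k => ⟨(k : ↥L), k.2⟩
        invFun := fun k => ⟨⟨k, Or.inl k.2⟩, k.2⟩
        left_inv := fun k => rfl
        right_inv := fun k => rfl }
  have h := (MulAction.stabilizer ↥L s).card_mul_index
  rw [MulAction.index_stabilizer, h3', hst, (c.central_facts hs).1] at h
  omega

end noData

include c hs hd

/-- An element of order five of the stabiliser moves every involution of the elementary abelian group. -/
theorem exists_five : ∃ y ∈ MulAction.stabilizer K s ⊓ M, orderOf y = 5 ∧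
    ∀ e ∈ E ⊓ M, ∃ a ∈ E ⊓ M, y * a * y⁻¹ * a⁻¹ = e := by
  classical
  haveI : Fact (Nat.Prime 5) := ⟨by norm_num⟩
  haveI := c.M_normal
  obtain ⟨⟨y, hy⟩, ho⟩ := exists_prime_orderOf_dvd_card' (G := ↥(MulAction.stabilizer K s ⊓ M)) 5
    (by rw [(c.central_facts hs).2.1]; norm_num)
  have hy5 : orderOf y = 5 := by rw [← ho, ← Subgroup.orderOf_mk _ hy]
  refine ⟨y, hy, hy5, ?_⟩
  have hmem : ∀ a ∈ E ⊓ M, y * a * y⁻¹ * a⁻¹ ∈ E ⊓ M := fun a ha => mul_mem (c.norm_E0 hd hy.1 ha) (inv_mem ha)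
  let f : ↥(E ⊓ M) → ↥(E ⊓ M) := fun a => ⟨y * a * y⁻¹ * (a : K)⁻¹, hmem a a.2⟩
  have hinj : Function.Injective f := by
    rintro ⟨a, ha⟩ ⟨b, hb⟩ e
    have e' : y * a * y⁻¹ * a⁻¹ = y * b * y⁻¹ * b⁻¹ := congrArg Subtype.val e
    have hab : a * b = b * a := congrArg Subtype.val (hd.elem.1.is_comm.comm (⟨a, ha.1⟩ : ↥E) ⟨b, hb.1⟩)
    set d := b⁻¹ * a with hdd
    have hdE : d ∈ E ⊓ M := mul_mem (inv_mem hb) ha
    have hd1 : y * d = d * y := by
      have h1 : y * d * y⁻¹ = (y * b * y⁻¹)⁻¹ * (y * a * y⁻¹) := by rw [hdd]; group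
      have h2 : y * a * y⁻¹ = (y * b * y⁻¹ * b⁻¹) * a := by rw [← e']; group
      rw [h2, show (y * b * y⁻¹)⁻¹ * (y * b * y⁻¹ * b⁻¹ * a) = d by rw [hdd]; group] at h1
      exact mul_inv_eq_iff_eq_mul.1 h1
    by_contra hne
    have hd0 : d ≠ 1 := fun h => hne (Subtype.ext (inv_mul_eq_one.1 h).symm)
    have hd2 : d ^ 2 = 1 := hd.elem.2 d hdE.1
    have hφinj : ∀ x : ↥M, φ x = 1 → (x : K) ^ 10 = 1 → x = 1 := by
      intro x hx h10
      refine Subtype.ext (orderOf_eq_one_iff.1 (Nat.dvd_one.1 ?_))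
      have h3 : orderOf (x : K) ∣ 3 := by
        rw [← c.ordn]
        exact orderOf_dvd_of_mem_zpowers ((c.ker x).1 hx)
      rw [show 1 = Nat.gcd 3 10 by decide]
      exact Nat.dvd_gcd h3 (orderOf_dvd_of_pow_eq_one h10)
    have hy10 : y ^ 10 = 1 := by rw [show 10 = 5 * 2 from rfl, pow_mul, ← hy5, pow_orderOf_eq_one, one_pow]
    refine U43.no_five (t := φ ⟨d, hdE.2⟩) (x := φ ⟨y, hy.2⟩) (orderOf_eq_prime ?_ ?_) (orderOf_eq_prime ?_ ?_)
      ((show Commute (⟨d, hdE.2⟩ : ↥M) ⟨y, hy.2⟩ from Subtype.ext hd1.symm).map φ)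
    · rw [← map_pow, show (⟨d, hdE.2⟩ : ↥M) ^ 2 = 1 from Subtype.ext hd2, map_one]
    · intro h
      exact hd0 (congrArg Subtype.val (hφinj _ h (by show d ^ 10 = 1; rw [show 10 = 2 * 5 from rfl, pow_mul, hd2, one_pow])))
    · rw [← map_pow, show (⟨y, hy.2⟩ : ↥M) ^ 5 = 1 from Subtype.ext (by rw [SubgroupClass.coe_pow]; simp [← hy5, pow_orderOf_eq_one]), map_one]
    · intro h
      have h1 : y = 1 := congrArg Subtype.val (hφinj _ h hy10)
      rw [h1, orderOf_one] at hy5
      norm_num at hy5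
  intro e he
  obtain ⟨⟨a, ha⟩, hfa⟩ := (Finite.surjective_of_injective hinj) ⟨e, he⟩
  exact ⟨a, ha, congrArg Subtype.val hfa⟩

/-- The map of the stabiliser onto the alternating group. -/
theorem exists_quotient : ∃ f : ↥(MulAction.stabilizer K s ⊓ M) →* Split.A6,
    Function.Surjective f ∧ ∀ k, f k = 1 ↔ (k : K) ∈ E ⊓ M := by
  obtain ⟨F, hF, hk⟩ := c.stab_quotient hs hd
  obtain ⟨-, -, -, hnM⟩ := c.data_cards hd
  obtain ⟨e0, he0E, he0M⟩ := SetLike.not_le_iff_exists.1 hnM
  refine ⟨F.comp (Subgroup.inclusion inf_le_left), fun a => ?_, fun k => ?_⟩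
  · obtain ⟨x, rfl⟩ := hF a
    by_cases hx : (x : K) ∈ M
    · exact ⟨⟨x, x.2, hx⟩, rfl⟩
    · have hm : e0⁻¹ * (x : K) ∈ M := (Subgroup.mul_mem_iff_of_index_two c.indexM).2 (by simp [hx, he0M])
      have hms : e0⁻¹ * (x : K) ∈ MulAction.stabilizer K s := mul_mem (inv_mem (c.E_le_stab hd he0E)) x.2
      refine ⟨⟨_, hms, hm⟩, ?_⟩
      show F (⟨e0⁻¹, inv_mem (c.E_le_stab hd he0E)⟩ * x) = F x
      rw [map_mul, (MonoidHom.mem_ker).1 (show (⟨e0⁻¹, inv_mem (c.E_le_stab hd he0E)⟩ : ↥(MulAction.stabilizer K s)) ∈ F.ker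
        from hk ▸ (inv_mem he0E : e0⁻¹ ∈ E)), one_mul]
  · rw [← MonoidHom.mem_ker, ← MonoidHom.comap_ker, hk]
    exact ⟨fun h => ⟨h, k.2.2⟩, fun h => h.1⟩

/-- The vectors of `D` fixed by the part in `M` form the line. -/
theorem fixed_line :
    (∀ d ∈ D, (∀ e ∈ E ⊓ M, e • d = d) → InLine n s d) ∧ n • s ∈ D ∧ n • n • s ∈ D := by
  obtain ⟨hmem, hfix⟩ := c.fix_line hs hd
  obtain ⟨-, -, -, hsum, -⟩ := c.line_distinct hs
  refine ⟨fun d hdD hf => ?_, hmem, hsum ▸ D.add_mem hd.mem hmem⟩
  rcases hfix d hdD hf with e | e | e | e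
  · exact Or.inl e
  · exact Or.inr (Or.inl e)
  · exact Or.inr (Or.inr (Or.inl e))
  · exact Or.inr (Or.inr (Or.inr (e.trans hsum)))

/-- Commutation with the part in `M` takes the orthogonal space of the line into the line. -/
theorem comm_line {e : K} (he : e ∈ E ⊓ M) {v : V}
    (h1 : polar q v s = 0) (h2 : polar q v (n • s) = 0) : InLine n s (e • v + v) := by
  obtain ⟨hline, hnsD, hnnsD⟩ := c.fixed_line hs hd
  obtain ⟨-, -, -, hsum, -⟩ := c.line_distinct hs
  have hne : ∀ w : V, e • n • w = n • e • w := fun w => by rw [← mul_smul, c.commute he.2, mul_smul]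
  have h3 : polar q v (n • n • s) = 0 := by rw [← hsum, polar_add_right, h1, h2, add_zero]
  have hinv : ∀ a b : V, polar q (n • a) b = polar q a (n • n • b) := fun a b => by
    conv_lhs => rw [← c.smul_n_three b, c.polar_smul]
  set w := e • v + v with hw
  have hD0 : w ∈ D := hd.perp e he.1 v h1
  have hD1 : n • w ∈ D := by
    rw [hw, smul_add, ← hne]
    exact hd.perp e he.1 (n • v) (by rw [hinv]; exact h3)
  have hD2 : n • n • w ∈ D := by
    rw [hw, smul_add, smul_add, ← hne, ← hne]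
    refine hd.perp e he.1 (n • n • v) ?_
    rw [hinv, hinv, c.smul_n_three]
    exact h2
  refine hline w hD0 fun a ha => ?_
  have hna : ∀ u : V, a • n • u = n • a • u := fun u => by rw [← mul_smul, c.commute ha.2, mul_smul]
  rcases hd.move a ha.1 w hD0 with h | h
  · exact h
  · exfalso
    have hx := c.line_distinct hs
    rcases hd.move a ha.1 (n • w) hD1 with h' | h' <;> rw [hna, h, smul_add] at h'
    · exact c.smul_n_ne hs hs.ne (show n • s = s by
        have : n • s = 0 := add_left_cancel (a := n • w) (by rw [h', add_zero])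
        exact absurd this (fun e0 => hs.ne (by rw [← c.smul_n_three s, e0, smul_zero, smul_zero])))
    · exact hx.1 (add_left_cancel h')

end CfsgLib.LargeFischer.Core
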